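import Groth.Prelude.Def_AlgSpGpd
import Groth.Agent.Lib.AlgSpDecent.HasAtChart
import Groth.Agent.Lib.AlgSpDecent.FieldDim
import Groth.Agent.Lib.AlgSpace.Diag
import Groth.Agent.S7610
import Groth.Agent.S5792

/-!
# Local dimensions of group spaces over a field
-/

universe u

open CategoryTheory CategoryTheory.Limits AlgebraicGeometry AlgSp Opposite
open MonoidalCategory CartesianMonoidalCategory MonObj
open Groth.Agent.AlgSpace Groth.Agent.AlgSpDecent

set_option backward.isDefEq.respectTransparency false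
set_option backward.isDefEq.respectTransparency.types false
set_option linter.style.haveILetI false

namespace Groth.Agent.GrpDim14

variable {k : Type u} [Field k]

theorem exists_localDim_eq_nat {X : Scheme.{u}} (f : X ⟶ Spec (CommRingCat.of k)) [LocallyOfFiniteType f]
    (x : X) : ∃ n : ℕ, FlatMor.localDim X x = n := by
  have h0 : (0 : WithBot ℕ∞) ≤ FlatMor.localDim X x := le_iInf fun U => by
    have : Nonempty ↥(U.1 : Set X) := ⟨⟨x, U.2⟩⟩
    let z : TopologicalSpace.IrreducibleCloseds ↥(U.1 : Set X) :=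
      ⟨closure {Classical.arbitrary _}, isIrreducible_singleton.closure, isClosed_closure⟩
    have : Nonempty (TopologicalSpace.IrreducibleCloseds ↥(U.1 : Set X)) := ⟨z⟩
    exact Order.krullDim_nonneg
  obtain ⟨_, ⟨V, hV, rfl⟩, hxV, -⟩ := X.isBasis_affineOpens.exists_subset_of_mem_open
    (Set.mem_univ x) isOpen_univ
  let φ : k →+* Γ(X, V) := (f.appLE ⊤ V le_top).hom.comp (Scheme.ΓSpecIso (CommRingCat.of k)).inv.hom
  have hφ : φ.FiniteType := (f.finiteType_appLE (isAffineOpen_top _) hV le_top).comp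
    (RingHom.FiniteType.of_surjective _ (ConcreteCategory.bijective_of_isIso
      (Scheme.ΓSpecIso (CommRingCat.of k)).inv).2)
  letI := φ.toAlgebra
  haveI : Algebra.FiniteType k Γ(X, V) := hφ
  obtain ⟨n, g, hg⟩ := Algebra.FiniteType.iff_quotient_mvPolynomial''.1 ‹Algebra.FiniteType k Γ(X, V)›
  have h1 : topologicalKrullDim (Scheme.Opens.toScheme (X := X) V) ≤ (n : WithBot ℕ∞) := by
    rw [show topologicalKrullDim (Scheme.Opens.toScheme (X := X) V) = topologicalKrullDim ↥(Spec Γ(X, V)) from
      IsHomeomorph.topologicalKrullDim_eq _ (Scheme.homeoOfIso (IsAffineOpen.isoSpec (X := X) (U := V) hV)).isHomeomorph]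
    refine le_of_eq_of_le (PrimeSpectrum.topologicalKrullDim_eq_ringKrullDim Γ(X, V)) ?_
    refine (ringKrullDim_le_of_surjective g.toRingHom hg).trans ?_
    rw [MvPolynomial.ringKrullDim_of_isNoetherianRing, ringKrullDim_eq_zero_of_field]
    simp
  have h2 : FlatMor.localDim X x ≤ (n : WithBot ℕ∞) :=
    (iInf_le (fun U : {U : TopologicalSpace.Opens X // x ∈ U} => topologicalKrullDim (U.1 : Set X))
      ⟨(V : TopologicalSpace.Opens X), hxV⟩).trans h1
  obtain ⟨a, ha⟩ : ∃ a : ℕ∞, FlatMor.localDim X x = a := by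
    revert h0
    cases FlatMor.localDim X x with
    | bot => intro h; simp at h
    | coe a => exact fun _ => ⟨a, rfl⟩
  obtain ⟨m, rfl⟩ : ∃ m : ℕ, a = m := by
    rw [ha] at h2
    have h3 : a ≤ (n : ℕ∞) := WithBot.coe_le_coe.1 (by simpa using h2)
    exact ⟨a.toNat, (ENat.natCast_toNat (ne_top_of_le_ne_top (ENat.natCast_ne_top n) h3)).symm⟩
  exact ⟨m, ha⟩

/-- Dimension of the space from constant local dimension of charts. -/
theorem dim_eq_of_const {S : Scheme.{u}} {F : Sp S} (hF : IsAlgSpace F) [Nonempty (Points F)]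
    (d : WithBot ℕ∞)
    (h : ∀ (U : Over S) (a : (yon S).obj U ⟶ F) (u : U.left), RepWith @Etale a → FlatMor.localDim U.left u = d) :
    AlgSp.dim F = d := by
  refine le_antisymm (iSup_le fun U => iSup_le fun a => iSup_le fun ha => ?_) ?_
  · rw [S5792.result]
    exact iSup_le fun u => (h U a u ha).le
  · obtain ⟨U, a, hae, has⟩ := hF.atlas
    obtain ⟨u, -⟩ := surjective_ofPt has (Classical.arbitrary (Points F))
    rw [← h U a u hae]
    refine le_trans ?_ (le_iSup_of_le U (le_iSup_of_le a (le_iSup_of_le hae le_rfl)))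
    rw [S5792.result]
    exact le_iSup (fun v => FlatMor.localDim U.left v) u

theorem localDim_eq_of_charts {S : Scheme.{u}} {F : Sp S} {U U' : Over S} {a : (yon S).obj U ⟶ F}
    (ha : RepWith @Etale a) {a' : (yon S).obj U' ⟶ F} (ha' : RepWith @Etale a') {u : U.left} {u' : U'.left}
    (h : Points.ofPt a u = Points.ofPt a' u') :
    FlatMor.localDim U.left u = FlatMor.localDim U'.left u' := by
  obtain ⟨Z, p, q, z, hp, hq, rfl, rfl⟩ := exists_common_chart ha ha' h
  exact (localDim_etale p.left z).symm.trans (localDim_etale q.left z)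

variable (G : Over ((yon (Spec (CommRingCat.of k))).obj (Over.mk (𝟙 _)))) [GrpObj G]

/-- The local dimension of a group space locally of finite type over a field is constant. -/
theorem localDim_const (hG : IsAlgSpace G.left) (hlft : LocP @LocallyOfFiniteType G.hom)
    {U U' : Over (Spec (CommRingCat.of k))} {a : (yon _).obj U ⟶ G.left} (ha : RepWith @Etale a)
    {a' : (yon _).obj U' ⟶ G.left} (ha' : RepWith @Etale a') (u : U.left) (u' : U'.left) :
    FlatMor.localDim U.left u = FlatMor.localDim U'.left u' := by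
  have hT : IsTerminal ((yon (Spec (CommRingCat.of k))).obj (Over.mk (𝟙 _))) :=
    Over.mkIdTerminal.isTerminalObj _ _
  obtain ⟨A, b, hbe, hbs⟩ := hG.atlas
  have : LocallyOfFiniteType A.hom := chart_lft hlft hbe
  -- the chart of the product
  let W : Over (Spec (CommRingCat.of k)) := A ⨯ A
  obtain ⟨r, hr₁, hr₂, hre, hrs⟩ : ∃ r : (yon _).obj W ⟶ (G ⊗ G).left,
      r ≫ (fst G G).left = (yon _).map prod.fst ≫ b ∧ r ≫ (snd G G).left = (yon _).map prod.snd ≫ b ∧
      RepWith @Etale r ∧ RepWith @Surjective r := by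
    let κ : G.left ⨯ G.left ⟶ pullback G.hom G.hom := pullback.lift prod.fst prod.snd (hT.hom_ext _ _)
    have : IsIso κ := ⟨prod.lift (pullback.fst _ _) (pullback.snd _ _),
      Limits.prod.hom_ext (by simp [κ]) (by simp [κ]), pullback.hom_ext (by simp [κ]) (by simp [κ])⟩
    refine ⟨Limits.prodComparison (yon _) A A ≫ prod.map b b ≫ κ, ?_, ?_, ?_, ?_⟩
    · show (Limits.prodComparison (yon _) A A ≫ prod.map b b ≫ κ) ≫ pullback.fst G.hom G.hom = _
      simp [κ]
    · show (Limits.prodComparison (yon _) A A ≫ prod.map b b ≫ κ) ≫ pullback.snd G.hom G.hom = _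
      simp [κ]
    · exact (repWith_respectsIso_left _).2 ((repWith_respectsIso_right _).2 (repWith_prod_map hbe hbe))
    · exact (repWith_respectsIso_left _).2 ((repWith_respectsIso_right _).2 (repWith_prod_map hbs hbs))
  -- additivity
  have hadd : ∀ z : W.left, FlatMor.localDim W.left z =
      FlatMor.localDim A.left ((prod.fst : W ⟶ A).left z) + FlatMor.localDim A.left ((prod.snd : W ⟶ A).left z) := by
    intro z
    letI : A.left.Over (Spec (CommRingCat.of k)) := ⟨A.hom⟩
    haveI : LocallyOfFiniteType (A.left ↘ Spec (CommRingCat.of k)) := ‹LocallyOfFiniteType A.hom›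
    let i := (isPullback_fst_left A A).isoPullback
    have h := S7610.result k A.left A.left (i.hom z)
    have h1 : pullback.fst A.hom A.hom (i.hom z) = (prod.fst : W ⟶ A).left z :=
      (Scheme.Hom.comp_apply _ _ _).symm.trans
        (congrArg (fun q : W.left ⟶ A.left => q z) (isPullback_fst_left A A).isoPullback_hom_fst)
    have h2 : pullback.snd A.hom A.hom (i.hom z) = (prod.snd : W ⟶ A).left z :=
      (Scheme.Hom.comp_apply _ _ _).symm.trans
        (congrArg (fun q : W.left ⟶ A.left => q z) (isPullback_fst_left A A).isoPullback_hom_snd)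
    rw [localDim_etale i.hom z]
    refine h.trans ?_
    exact congrArg₂ (· + ·) (congrArg _ h1) (congrArg _ h2)
  -- the two shears
  let φ : G ⊗ G ≅ G ⊗ G :=
    { hom := CartesianMonoidalCategory.lift (fst G G) (fst G G * snd G G)
      inv := CartesianMonoidalCategory.lift (fst G G) ((fst G G)⁻¹ * snd G G)
      hom_inv_id := by
        ext1 <;> simp [MonObj.comp_mul, GrpObj.comp_inv]
      inv_hom_id := by
        ext1 <;> simp [MonObj.comp_mul, GrpObj.comp_inv] }
  let ψ : G ⊗ G ≅ G ⊗ G :=
    { hom := CartesianMonoidalCategory.lift (fst G G * snd G G) (snd G G)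
      inv := CartesianMonoidalCategory.lift (fst G G * (snd G G)⁻¹) (snd G G)
      hom_inv_id := by
        ext1 <;> simp [MonObj.comp_mul, GrpObj.comp_inv]
      inv_hom_id := by
        ext1 <;> simp [MonObj.comp_mul, GrpObj.comp_inv] }
  have : IsIso φ.hom.left := ((Over.forget _).mapIso φ).isIso_hom
  have hrφ : RepWith @Etale (r ≫ φ.hom.left) := (repWith_respectsIso_right φ.hom.left).2 hre
  -- pick a point over `(u, u')`
  obtain ⟨v, hv⟩ := surjective_ofPt hbs (Points.ofPt a u)
  obtain ⟨v', hv'⟩ := surjective_ofPt hbs (Points.ofPt a' u')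
  rw [← localDim_eq_of_charts hbe ha hv, ← localDim_eq_of_charts hbe ha' hv']
  have : IsIso ψ.inv.left := ((Over.forget _).mapIso ψ).isIso_inv
  obtain ⟨p, hp1, hp2⟩ := exists_point_lift (IsPullback.of_hasPullback G.hom G.hom)
    (Points.ofPt b v') (Points.ofPt b v) (by
      obtain ⟨t, ht⟩ := (Points.schemeEquiv (Over.mk (𝟙 (Spec (CommRingCat.of k))))).surjective
        (Points.map G.hom (Points.ofPt b v'))
      obtain ⟨t', ht'⟩ := (Points.schemeEquiv (Over.mk (𝟙 (Spec (CommRingCat.of k))))).surjective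
        (Points.map G.hom (Points.ofPt b v))
      rw [← ht, ← ht']
      exact congrArg _ (Subsingleton.elim (α := PrimeSpectrum k) t t'))
  let w := Points.map ψ.inv.left p
  obtain ⟨z, hz⟩ := surjective_ofPt hrs w
  obtain ⟨z', hz'⟩ := surjective_ofPt hrs (Points.map φ.hom.left w)
  have e0 : FlatMor.localDim W.left z = FlatMor.localDim W.left z' :=
    localDim_eq_of_charts hrφ hre (by rw [← Points.map_ofPt, hz, hz'])
  rw [hadd, hadd] at e0
  have ld : ∀ x y : A.left, Points.ofPt b x = Points.ofPt b y → FlatMor.localDim A.left x = FlatMor.localDim A.left y :=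
    fun x y h => localDim_eq_of_charts hbe hbe h
  have f1 : ∀ t, Points.ofPt b ((prod.fst : W ⟶ A).left t) = Points.map (fst G G).left (Points.ofPt r t) := fun t => by
    rw [Points.map_ofPt, hr₁, ofPt_map_comp]
  have f2 : ∀ t, Points.ofPt b ((prod.snd : W ⟶ A).left t) = Points.map (snd G G).left (Points.ofPt r t) := fun t => by
    rw [Points.map_ofPt, hr₂, ofPt_map_comp]
  have k1 : FlatMor.localDim A.left ((prod.fst : W ⟶ A).left z') =
      FlatMor.localDim A.left ((prod.fst : W ⟶ A).left z) := ld _ _ (by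
    rw [f1, f1, hz', hz, ← Points.map_comp, ← Over.comp_left, CartesianMonoidalCategory.lift_fst])
  have k2 : FlatMor.localDim A.left ((prod.snd : W ⟶ A).left z) = FlatMor.localDim A.left v := ld _ _ (by
    rw [f2, hz, ← Points.map_comp, ← Over.comp_left, CartesianMonoidalCategory.lift_snd]
    exact hp2)
  have k3 : FlatMor.localDim A.left ((prod.snd : W ⟶ A).left z') = FlatMor.localDim A.left v' := ld _ _ (by
    rw [f2, hz', ← Points.map_comp, ← Points.map_comp, ← Over.comp_left, ← Over.comp_left]
    have : ψ.inv ≫ φ.hom ≫ snd G G = fst G G := by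
      simp [φ, ψ, MonObj.comp_mul, GrpObj.comp_inv]
    rw [this]
    exact hp1)
  rw [k1, k2, k3] at e0
  obtain ⟨c, hc⟩ := exists_localDim_eq_nat A.hom ((prod.fst : W ⟶ A).left z)
  obtain ⟨m, hm⟩ := exists_localDim_eq_nat A.hom v
  obtain ⟨m', hm'⟩ := exists_localDim_eq_nat A.hom v'
  rw [hc, hm, hm'] at e0
  rw [hm, hm']
  norm_cast at e0 ⊢
  omega

end Groth.Agent.GrpDim14
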