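import Groth.Agent.Lib.GrpDim14.Basic
import Groth.Agent.Lib.AlgSpace.GroupoidCalc

/-!
# Local dimensions of groupoids over a field
-/

universe u

open CategoryTheory CategoryTheory.Limits AlgebraicGeometry AlgSp Opposite
open Groth.Agent.AlgSpace Groth.Agent.AlgSpDecent

set_option backward.isDefEq.respectTransparency false
set_option backward.isDefEq.respectTransparency.types false
set_option linter.style.haveILetI false

namespace Groth.Agent.GrpDim14

variable {S : Scheme.{u}} {k : Type u} [Field k] {σ : Spec (CommRingCat.of k) ⟶ S}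

/-- Additivity of the local dimension on fibre products over a field. -/
theorem localDim_fibreProd {F : Sp S} (p q : F ⟶ (yon S).obj (Over.mk σ))
    (hp : LocP @LocallyOfFiniteType p) (hq : LocP @LocallyOfFiniteType q)
    {A : Over S} {b : (yon S).obj A ⟶ F} (hbe : RepWith @Etale b) (hbs : RepWith @Surjective b)
    {P : Sp S} {f g : P ⟶ F} (sq : IsPullback f g p q) :
    ∃ (W : Over S) (r : (yon S).obj W ⟶ P), RepWith @Etale r ∧ RepWith @Surjective r ∧
      ∀ z : W.left, ∃ x y : A.left, Points.ofPt b x = Points.map f (Points.ofPt r z) ∧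
        Points.ofPt b y = Points.map g (Points.ofPt r z) ∧
        FlatMor.localDim W.left z = FlatMor.localDim A.left x + FlatMor.localDim A.left y := by
  obtain ⟨m, hm⟩ := (yon S).map_surjective (b ≫ p)
  obtain ⟨n, hn⟩ := (yon S).map_surjective (b ≫ q)
  have hid : RepWith @Etale (𝟙 ((yon S).obj (Over.mk σ))) := repWith_id @Etale _
  have : LocallyOfFiniteType m.left := hp b (𝟙 _) m hbe hid (by rw [Category.comp_id, hm])
  have : LocallyOfFiniteType n.left := hq b (𝟙 _) n hbe hid (by rw [Category.comp_id, hn])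
  have sqW := IsPullback.of_hasPullback m n
  let r : (yon S).obj (pullback m n) ⟶ P :=
    (sqW.map (yon S)).isoPullback.hom ≫
      pullback.map ((yon S).map m) ((yon S).map n) p q b b (𝟙 _) (by rw [Category.comp_id, hm])
        (by rw [Category.comp_id, hn]) ≫ sq.isoPullback.inv
  have hcomp : ∀ {Q : MorphismProperty Scheme.{u}} [Q.IsStableUnderBaseChange] [Q.IsMultiplicative],
      RepWith Q b → RepWith Q r := fun {Q} _ _ h =>
    (repWith_respectsIso_left _).2 ((repWith_respectsIso_right _).2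
      (MorphismProperty.pullbackMap (P := RepWith (S := S) Q) h h hm hn))
  have hr₁ : r ≫ f = (yon S).map (pullback.fst m n) ≫ b := by
    simp only [r, Category.assoc, IsPullback.isoPullback_inv_fst, pullback.lift_fst,
      IsPullback.isoPullback_hom_fst_assoc]
  have hr₂ : r ≫ g = (yon S).map (pullback.snd m n) ≫ b := by
    simp only [r, Category.assoc, IsPullback.isoPullback_inv_snd, pullback.lift_snd,
      IsPullback.isoPullback_hom_snd_assoc]
  refine ⟨_, r, hcomp hbe, hcomp hbs, fun z => ⟨(pullback.fst m n).left z, (pullback.snd m n).left z,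
    ?_, ?_, ?_⟩⟩
  · rw [Points.map_ofPt, hr₁, ofPt_map_comp]
  · rw [Points.map_ofPt, hr₂, ofPt_map_comp]
  let i := (sqW.map (Over.forget S)).isoPullback
  have h := @S7610.result k _ A.left ⟨m.left⟩ ‹_› A.left ⟨n.left⟩ ‹_› (i.hom z)
  have h1 : pullback.fst m.left n.left (i.hom z) = (pullback.fst m n).left z :=
    (Scheme.Hom.comp_apply _ _ _).symm.trans
      (congrArg (fun q : (pullback m n).left ⟶ A.left => q z) (sqW.map (Over.forget S)).isoPullback_hom_fst)
  have h2 : pullback.snd m.left n.left (i.hom z) = (pullback.snd m n).left z :=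
    (Scheme.Hom.comp_apply _ _ _).symm.trans
      (congrArg (fun q : (pullback m n).left ⟶ A.left => q z) (sqW.map (Over.forget S)).isoPullback_hom_snd)
  exact (localDim_etale i.hom z).trans (h.trans (congrArg₂ (· + ·) (congrArg _ h1) (congrArg _ h2)))

/-- The local dimension of the arrows of a groupoid over a field is constant. -/
theorem groupoid_localDim_const {B : Sp S} (G : GroupoidSp B) (hR : IsAlgSpace G.R)
    (eU : G.U ≅ (yon S).obj (Over.mk σ))
    (hs : LocP @LocallyOfFiniteType G.s) (ht : LocP @LocallyOfFiniteType G.t)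
    {U U' : Over S} {a : (yon S).obj U ⟶ G.R} (ha : RepWith @Etale a)
    {a' : (yon S).obj U' ⟶ G.R} (ha' : RepWith @Etale a') (u : U.left) (u' : U'.left) :
    FlatMor.localDim U.left u = FlatMor.localDim U'.left u' := by
  have hU : IsAlgSpace G.U := (IsAlgSpace.yon_obj (Over.mk σ)).of_iso eU.symm
  have he : LocP @LocallyOfFiniteType eU.hom := locP_of_repWith (IsAlgSpace.yon_obj _)
    (MorphismProperty.of_isIso (RepWith (S := S) @LocallyOfFiniteType) _)
  have hs' := locP_comp hR hU (IsAlgSpace.yon_obj _) hs he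
  have ht' := locP_comp hR hU (IsAlgSpace.yon_obj _) ht he
  obtain ⟨A, b, hbe, hbs⟩ := hR.atlas
  have ld : ∀ {x y : A.left}, Points.ofPt b x = Points.ofPt b y →
      FlatMor.localDim A.left x = FlatMor.localDim A.left y :=
    fun h => localDim_eq_of_charts hbe hbe h
  have sqT : IsPullback (pullback.fst G.s G.t) G.c G.t G.t := by
    obtain ⟨φ, h₁, h₂⟩ : ∃ φ : pullback G.t G.t ⟶ pullback G.s G.t,
        φ ≫ pullback.fst G.s G.t = pullback.fst G.t G.t ∧
        φ ≫ pullback.snd G.s G.t = cmp G (pullback.fst G.t G.t ≫ G.i) (pullback.snd G.t G.t)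
          ((Category.assoc _ _ _).trans ((congrArg (pullback.fst G.t G.t ≫ ·) G.i_s).trans pullback.condition)) :=
      ⟨pullback.lift (pullback.fst G.t G.t)
        (cmp G (pullback.fst G.t G.t ≫ G.i) (pullback.snd G.t G.t)
          ((Category.assoc _ _ _).trans ((congrArg (pullback.fst G.t G.t ≫ ·) G.i_s).trans pullback.condition)))
        (by rw [cmp_t, Category.assoc, G.i_t]), pullback.lift_fst _ _ _, pullback.lift_snd _ _ _⟩
    obtain ⟨hφ, hc⟩ := isIso_shear φ h₁ h₂
    refine IsPullback.of_iso_pullback ⟨by rw [c_eq, cmp_t]⟩ (asIso φ).symm ?_ ?_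
    · rw [Iso.symm_hom, asIso_inv, IsIso.inv_comp_eq, h₁]
    · rw [Iso.symm_hom, asIso_inv, IsIso.inv_comp_eq, hc]
  have hcomp : ∀ {P : Sp S} {f g : P ⟶ G.R} {p q : G.R ⟶ G.U}, IsPullback f g p q →
      IsPullback f g (p ≫ eU.hom) (q ≫ eU.hom) := fun sq =>
    sq.of_iso (Iso.refl _) (Iso.refl _) (Iso.refl _) eU (by simp) (by simp) (by simp) (by simp)
  obtain ⟨W₁, r₁, hr₁e, hr₁s, h₁⟩ := localDim_fibreProd _ _ hs' ht' hbe hbs
    (hcomp (IsPullback.of_hasPullback G.s G.t))
  obtain ⟨W₂, r₂, hr₂e, hr₂s, h₂⟩ := localDim_fibreProd _ _ ht' ht' hbe hbs (hcomp sqT)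
  -- `d (c w) = d (snd w)`
  have key : ∀ (w : Points (pullback G.s G.t)) (x y : A.left), Points.ofPt b x = Points.map G.c w →
      Points.ofPt b y = Points.map (pullback.snd G.s G.t) w →
      FlatMor.localDim A.left x = FlatMor.localDim A.left y := by
    intro w x y hx hy
    obtain ⟨z₁, hz₁⟩ := surjective_ofPt hr₁s w
    obtain ⟨z₂, hz₂⟩ := surjective_ofPt hr₂s w
    obtain ⟨f₁, g₁, hf₁, hg₁, e₁⟩ := h₁ z₁
    obtain ⟨f₂, g₂, hf₂, hg₂, e₂⟩ := h₂ z₂
    have e₀ : FlatMor.localDim W₁.left z₁ = FlatMor.localDim W₂.left z₂ :=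
      localDim_eq_of_charts hr₁e hr₂e (hz₁.trans hz₂.symm)
    rw [hz₁] at hf₁ hg₁
    rw [hz₂] at hf₂ hg₂
    rw [e₁, e₂, ld (hg₁.trans hy.symm), ld (hf₂.trans hf₁.symm), ld (hg₂.trans hx.symm)] at e₀
    obtain ⟨m, hm⟩ := (yon S).map_surjective (b ≫ G.s ≫ eU.hom)
    have : LocallyOfFiniteType m.left := hs' b (𝟙 _) m hbe (repWith_id @Etale _) (by rw [Category.comp_id, hm])
    obtain ⟨n₁, hn₁⟩ := exists_localDim_eq_nat m.left f₁
    obtain ⟨n₂, hn₂⟩ := exists_localDim_eq_nat m.left x
    obtain ⟨n₃, hn₃⟩ := exists_localDim_eq_nat m.left y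
    rw [hn₁, hn₂, hn₃] at e₀
    rw [hn₂, hn₃]
    norm_cast at e₀ ⊢
    omega
  obtain ⟨v, hv⟩ := surjective_ofPt hbs (Points.ofPt a u)
  obtain ⟨v', hv'⟩ := surjective_ofPt hbs (Points.ofPt a' u')
  rw [← localDim_eq_of_charts hbe ha hv, ← localDim_eq_of_charts hbe ha' hv']
  obtain ⟨w, hw₁, hw₂⟩ := exists_point_lift (isPullback_c_snd (G := G)) (Points.ofPt b v) (Points.ofPt b v') (by
    apply (bijective_map_iso eU.hom).1
    obtain ⟨t, ht⟩ := (Points.schemeEquiv (Over.mk σ)).surjective
      (Points.map eU.hom (Points.map G.s (Points.ofPt b v)))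
    obtain ⟨t', ht'⟩ := (Points.schemeEquiv (Over.mk σ)).surjective
      (Points.map eU.hom (Points.map G.s (Points.ofPt b v')))
    rw [← ht, ← ht']
    exact congrArg _ (Subsingleton.elim (α := PrimeSpectrum k) t t'))
  exact key w v v' hw₁.symm hw₂.symm

end Groth.Agent.GrpDim14
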