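import Groth.Agent.Lib.GrpDim14.Groupoid
import Groth.Agent.Lib.AlgSpDecent.DimMor
import Groth.Agent.Lib.AlgSpace.MorDiag
import Groth.Agent.Lib.RedSep.Basic
import Mathlib.RingTheory.Spectrum.Prime.Chevalley
import Mathlib.RingTheory.Flat.TorsionFree

/-!
# The dimension of the stabilizer of a groupoid over a field
-/

universe u

open CategoryTheory CategoryTheory.Limits AlgebraicGeometry AlgSp Opposite TopologicalSpace
open Groth.Agent.AlgSpace Groth.Agent.AlgSpDecent

set_option backward.isDefEq.respectTransparency false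
set_option backward.isDefEq.respectTransparency.types false
set_option linter.style.haveILetI false
set_option maxHeartbeats 1600000

namespace Groth.Agent.GrpDim14

section Algebra

open Polynomial

/-- Two embeddings of a field into a finitely generated domain over it which agree modulo a prime
coincide. -/
theorem eq_algebraMap_of_mod {k A : Type u} [Field k] [CommRing A] [IsDomain A] [Algebra k A]
    [Algebra.FiniteType k A] (f : k →+* A) (P : Ideal A) [P.IsPrime]
    (h : ∀ x, f x - algebraMap k A x ∈ P) : f = algebraMap k A := by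
  classical
  ext a
  by_cases hz : IsAlgebraic k (f a)
  · by_contra hne
    set w := f a - algebraMap k A a with hw
    have hw0 : w ≠ 0 := sub_ne_zero.2 hne
    have hwi : IsIntegral k w := hz.isIntegral.sub isIntegral_algebraMap
    have hc := minpoly.coeff_zero_ne_zero hwi hw0
    have h0 : w * aeval w (minpoly k w).divX + algebraMap k A ((minpoly k w).coeff 0) = 0 := by
      have := congrArg (aeval w) (X_mul_divX_add (minpoly k w))
      rw [map_add, map_mul, aeval_X, aeval_C, minpoly.aeval] at this
      exact this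
    have hmem : algebraMap k A ((minpoly k w).coeff 0) ∈ P := by
      rw [eq_neg_of_add_eq_zero_right h0]
      exact P.neg_mem (P.mul_mem_right _ (h a))
    exact ‹P.IsPrime›.ne_top (P.eq_top_of_isUnit_mem hmem ((IsUnit.mk0 _ hc).map _))
  · exfalso
    let F := (⊥ : Subfield k)
    have hF : ∀ x : F, f (x : k) = algebraMap k A (x : k) := by
      intro x
      apply IsFractionRing.injective A (FractionRing A)
      exact RingHom.congr_fun (show ((algebraMap A (FractionRing A)).comp f).comp F.subtype =
        ((algebraMap A (FractionRing A)).comp (algebraMap k A)).comp F.subtype from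
          RingHom.ext fun y => by
            have : F ≤ RingHom.eqLocusField ((algebraMap A (FractionRing A)).comp f)
              ((algebraMap A (FractionRing A)).comp (algebraMap k A)) := bot_le
            exact this y.2) x
    let φ : k[X] →ₐ[k] A := aeval (f a)
    have hφ : Function.Injective φ := transcendental_iff_injective.1 hz
    letI := φ.toRingHom.toAlgebra
    haveI : IsScalarTower k k[X] A := IsScalarTower.of_algebraMap_eq fun x => (φ.commutes x).symm
    haveI : Algebra.FiniteType k[X] A := Algebra.FiniteType.of_restrictScalars_finiteType k k[X] A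
    haveI : Algebra.FinitePresentation k[X] A := Algebra.FinitePresentation.of_finiteType.1 inferInstance
    haveI : FaithfulSMul k[X] A := (faithfulSMul_iff_algebraMap_injective _ _).2 hφ
    haveI : Module.IsTorsionFree k[X] A := inferInstance
    haveI : Module.Flat k[X] A := inferInstance
    haveI : Algebra.HasGoingDown k[X] A := inferInstance
    have hop : IsOpen (Set.range (PrimeSpectrum.comap (algebraMap k[X] A))) :=
      PrimeSpectrum.isOpenMap_comap_of_hasGoingDown_of_finitePresentation.isOpen_range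
    let η : PrimeSpectrum k[X] := ⟨⊥, Ideal.isPrime_bot⟩
    have hη : η ∈ Set.range (PrimeSpectrum.comap (algebraMap k[X] A)) :=
      ⟨⟨⊥, Ideal.isPrime_bot⟩, PrimeSpectrum.ext (Ideal.comap_bot_of_injective _ hφ)⟩
    obtain ⟨_, ⟨q, rfl⟩, hqη, hqsub⟩ :=
      PrimeSpectrum.isTopologicalBasis_basic_opens.exists_subset_of_mem_open hη hop
    have hq : q ≠ 0 := fun e => hqη (by simp [e])
    let K := AlgebraicClosure k
    let m : F[X] := X * ∏ r ∈ ((q.aroots K).toFinset.filter fun r => IsIntegral F r), minpoly F r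
    have hmm : m.Monic := monic_X.mul (monic_prod_of_monic _ _ fun r hr =>
      minpoly.monic (Finset.mem_filter.1 hr).2)
    have hdeg : 0 < m.natDegree := by
      rw [monic_X.natDegree_mul (monic_prod_of_monic _ _ fun r hr => minpoly.monic (Finset.mem_filter.1 hr).2),
        natDegree_X]
      omega
    let p : F[X] := m + C 1
    have hpdeg : p.natDegree = m.natDegree := natDegree_add_C
    have hp0 : p ≠ 0 := fun e => by rw [e, natDegree_zero] at hpdeg; omega
    obtain ⟨r₀, hr₀⟩ : ∃ r₀ : K, aeval r₀ p = 0 := IsAlgClosed.exists_aeval_eq_zero K p (by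
      intro e
      rw [natDegree_eq_zero_iff_degree_le_zero.2 e.le] at hpdeg
      omega)
    have hq0 : aeval r₀ q ≠ 0 := fun e => by
      have hm0 : aeval r₀ m = 0 := by
        simp only [m, map_mul, map_prod]
        refine mul_eq_zero_of_right _ (Finset.prod_eq_zero (i := r₀) ?_ (minpoly.aeval F r₀))
        exact Finset.mem_filter.2 ⟨Multiset.mem_toFinset.2 (mem_aroots.2 ⟨hq, e⟩),
          (show IsAlgebraic F r₀ from ⟨p, hp0, hr₀⟩).isIntegral⟩
      simp [p, hm0] at hr₀
    let P' : PrimeSpectrum k[X] := ⟨RingHom.ker (aeval r₀ : k[X] →ₐ[k] K), RingHom.ker_isPrime _⟩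
    obtain ⟨Q, hQ⟩ := hqsub (show P' ∈ PrimeSpectrum.basicOpen q from fun hmem => hq0 hmem)
    have hpk : p.map (algebraMap F k) ∈ P'.asIdeal := by
      show aeval r₀ (p.map (algebraMap F k)) = 0
      rw [aeval_map_algebraMap]; exact hr₀
    have hmemQ : φ (p.map (algebraMap F k)) ∈ Q.asIdeal := by
      rw [← hQ] at hpk
      exact hpk
    have heq : φ (p.map (algebraMap F k)) = f (aeval a p) := by
      show aeval (f a) (p.map (algebraMap F k)) = _
      rw [aeval_def, eval₂_map, aeval_def, hom_eval₂]
      congr 1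
      ext x
      exact (hF x).symm
    have hpa : aeval a p ≠ 0 := fun e => hz ⟨p.map (algebraMap F k), Polynomial.map_ne_zero hp0, by
      show φ (p.map (algebraMap F k)) = 0
      rw [heq, e, map_zero]⟩
    exact Q.2.ne_top (Q.asIdeal.eq_top_of_isUnit_mem hmemQ (heq ▸ (IsUnit.mk0 _ hpa).map f))

end Algebra

variable {S : Scheme.{u}} {k : Type u} [Field k] {σ : Spec (CommRingCat.of k) ⟶ S}

theorem exists_open_in_component {α : Type*} [TopologicalSpace α] [NoetherianSpace α]
    {C : Set α} (hC : C ∈ irreducibleComponents α) : ∃ Q, IsOpen Q ∧ Q.Nonempty ∧ Q ⊆ C := by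
  classical
  let others : Set α := ⋃₀ (irreducibleComponents α \ {C})
  have hfin := (NoetherianSpace.finite_irreducibleComponents (α := α)).subset
    (Set.sdiff_subset : irreducibleComponents α \ {C} ⊆ irreducibleComponents α)
  have hoc : IsClosed others := by
    rw [show others = ⋃ D ∈ irreducibleComponents α \ {C}, D from Set.sUnion_eq_biUnion]
    exact hfin.isClosed_biUnion fun D hD => isClosed_of_mem_irreducibleComponents D hD.1
  refine ⟨othersᶜ, hoc.isOpen_compl, ?_, fun y hy => by_contra fun h => hy ⟨irreducibleComponent y,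
    ⟨irreducibleComponent_mem_irreducibleComponents y, fun e => h (e ▸ mem_irreducibleComponent)⟩,
    mem_irreducibleComponent⟩⟩
  by_contra hne
  rw [Set.not_nonempty_iff_eq_empty, Set.compl_empty_iff] at hne
  obtain ⟨D, hD, hCD⟩ := isIrreducible_iff_sUnion_isClosed.1 hC.1 hfin.toFinset
    (fun D hD => isClosed_of_mem_irreducibleComponents D ((Set.Finite.mem_toFinset _).1 hD).1)
    (by rw [Set.Finite.coe_toFinset]; rw [show ⋃₀ (irreducibleComponents α \ {C}) = Set.univ from hne]; exact Set.subset_univ C)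
  have hD' := (Set.Finite.mem_toFinset _).1 hD
  exact hD'.2 ((hC.eq_of_subset hD'.1.1 hCD).symm)

theorem dim_R_eq_dim_stabilizer {B : Sp S} (G : GroupoidSp B) (hR : IsAlgSpace G.R)
    (eU : G.U ≅ (yon S).obj (Over.mk σ))
    (hs : LocP @LocallyOfFiniteType G.s) (ht : LocP @LocallyOfFiniteType G.t) :
    AlgSp.dim G.R = AlgSp.dim G.stabilizer := by
  have hU : IsAlgSpace G.U := (IsAlgSpace.yon_obj (Over.mk σ)).of_iso eU.symm
  have hdiag : RepWith @LocallyQuasiFinite G.diag :=
    repWith_mono (fun _ _ g (hg : LocallyQuasiFinite g ∧ LocallyOfFiniteType g) => hg.1)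
      (repWith_diagonal_lqf hU G.pU)
  have hι : RepWith @LocallyQuasiFinite G.stabilizerι :=
    repWith_of_isPullback (IsPullback.of_hasPullback G.j G.diag).flip hdiag
  have hSt : IsAlgSpace G.stabilizer := isAlgSpace_of_representable hι.1 hR
  have he : LocP @LocallyOfFiniteType eU.hom := locP_of_repWith (IsAlgSpace.yon_obj _)
    (MorphismProperty.of_isIso (RepWith (S := S) @LocallyOfFiniteType) _)
  obtain ⟨A₀, b, hbe, hbs⟩ := hR.atlas
  obtain ⟨ms, hms⟩ := (yon S).map_surjective (b ≫ G.s ≫ eU.hom)
  obtain ⟨mt, hmt⟩ := (yon S).map_surjective (b ≫ G.t ≫ eU.hom)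
  have : LocallyOfFiniteType ms.left := locP_comp hR hU (IsAlgSpace.yon_obj _) hs he b (𝟙 _) ms hbe
    (repWith_id @Etale _) (by rw [Category.comp_id, hms])
  have : LocallyOfFiniteType mt.left := locP_comp hR hU (IsAlgSpace.yon_obj _) ht he b (𝟙 _) mt hbe
    (repWith_id @Etale _) (by rw [Category.comp_id, hmt])
  obtain ⟨AS, α, hαe, hαs⟩ := hSt.atlas
  -- the chart of the stabilizer over the chart of `R`
  have sqS := hbe.1.isPullback' (α ≫ G.stabilizerι)
  let AS' := hbe.1.pullback (α ≫ G.stabilizerι)
  let fA : AS' ⟶ A₀ := hbe.1.fst' (α ≫ G.stabilizerι)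
  let fS : AS' ⟶ AS := hbe.1.snd (α ≫ G.stabilizerι)
  have : Etale fS.left := hbe.2 _ _ _ (hbe.1.isPullback (α ≫ G.stabilizerι))
  have hfA : LocallyQuasiFinite fA.left :=
    (repWith_comp (repWith_mono (fun _ _ g (hg : Etale g) =>
      Groth.Agent.AlgSpDecent.locallyQuasiFinite_of_etale g) hαe) hι).2 b _ _ sqS.flip
  have hfSs : RepWith @Surjective ((yon S).map fS ≫ α) :=
    repWith_comp ((repWith_yon_map_iff _ fS).2 (hbs.2 _ _ _ (hbe.1.isPullback (α ≫ G.stabilizerι)))) hαs
  have hfSe : RepWith @Etale ((yon S).map fS ≫ α) :=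
    repWith_comp ((repWith_yon_map_iff _ fS).2 ‹_›) hαe
  apply le_antisymm
  · -- a reduced component through the identity lies in the stabilizer
    have sqe := hbe.1.isPullback' (eU.inv ≫ G.e)
    let T := hbe.1.pullback (eU.inv ≫ G.e)
    let fT : T ⟶ A₀ := hbe.1.fst' (eU.inv ≫ G.e)
    have hTs : Surjective (hbe.1.snd (eU.inv ≫ G.e)).left := hbs.2 _ _ _ (hbe.1.isPullback (eU.inv ≫ G.e))
    obtain ⟨z, -⟩ := (hbe.1.snd (eU.inv ≫ G.e)).left.surjective (IsLocalRing.closedPoint k)
    have hst : fT ≫ ms = fT ≫ mt := (yon S).map_injective (by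
      rw [Functor.map_comp, Functor.map_comp, hms, hmt, reassoc_of% sqe.w, reassoc_of% sqe.w,
        reassoc_of% G.e_s, reassoc_of% G.e_t])
    obtain ⟨V, hV, huV, -⟩ := exists_isAffineOpen_mem_and_subset (X := A₀.left) (x := fT.left z) (U := ⊤) trivial
    haveI : IsAffine V.toScheme := hV
    haveI : LocallyOfFiniteType (V.ι ≫ ms.left) := inferInstance
    haveI : IsLocallyNoetherian (Over.mk σ).left := inferInstanceAs (IsLocallyNoetherian (Spec (CommRingCat.of k)))
    haveI : IsLocallyNoetherian V.toScheme := LocallyOfFiniteType.isLocallyNoetherian (V.ι ≫ ms.left)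
    haveI : IsNoetherian V.toScheme := {}
    let x₀ : V.toScheme := ⟨fT.left z, huV⟩
    have hC := irreducibleComponent_mem_irreducibleComponents x₀
    let Cl : Closeds V.toScheme := ⟨irreducibleComponent x₀, isClosed_of_mem_irreducibleComponents _ hC⟩
    let I := Scheme.IdealSheafData.vanishingIdeal Cl
    haveI : IsReduced I.subscheme := RedSepLib.isReduced_vanishingIdeal_subscheme Cl
    haveI : IsAffine I.subscheme := isAffine_of_isAffineHom I.subschemeι
    have hr : Set.range I.subschemeι = irreducibleComponent x₀ := by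
      rw [Scheme.IdealSheafData.range_subschemeι, Scheme.IdealSheafData.coe_support_vanishingIdeal]
      rfl
    obtain ⟨y, hy⟩ : x₀ ∈ Set.range I.subschemeι := hr ▸ mem_irreducibleComponent
    haveI : Nonempty I.subscheme := ⟨y⟩
    haveI : IrreducibleSpace I.subscheme := by
      haveI : PreirreducibleSpace I.subscheme := ⟨by
        have := hC.1.2
        rw [← hr, ← Set.image_univ] at this
        exact fun u v hu hv ⟨a, _, ha⟩ ⟨c, _, hc⟩ => by
          obtain ⟨u', hu', rfl⟩ := I.subschemeι.isEmbedding.isOpen_iff.1 hu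
          obtain ⟨v', hv', rfl⟩ := I.subschemeι.isEmbedding.isOpen_iff.1 hv
          obtain ⟨_, ⟨d, -, rfl⟩, h1, h2⟩ := this u' v' hu' hv' ⟨_, ⟨a, trivial, rfl⟩, ha⟩ ⟨_, ⟨c, trivial, rfl⟩, hc⟩
          exact ⟨d, trivial, h1, h2⟩⟩
      exact IrreducibleSpace.mk ‹_›
    haveI : IsIntegral I.subscheme := isIntegral_of_irreducibleSpace_of_isReduced _
    let c : Over.mk (I.subschemeι ≫ V.ι ≫ A₀.hom) ⟶ A₀ := Over.homMk (I.subschemeι ≫ V.ι) (Category.assoc _ _ _)
    let Ar : CommRingCat.{u} := Γ(I.subscheme, ⊤)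
    let gs : Spec Ar ⟶ Spec (CommRingCat.of k) := I.subscheme.isoSpec.inv ≫ c.left ≫ ms.left
    let gt : Spec Ar ⟶ Spec (CommRingCat.of k) := I.subscheme.isoSpec.inv ≫ c.left ≫ mt.left
    haveI : LocallyOfFiniteType c.left := inferInstanceAs (LocallyOfFiniteType (I.subschemeι ≫ V.ι))
    have hgs : LocallyOfFiniteType gs := inferInstance
    letI : Algebra k Ar := (Spec.preimage gs).hom.toAlgebra
    haveI : Algebra.FiniteType k Ar := by
      rw [← Spec.map_preimage gs, HasRingHomProperty.Spec_iff (P := @LocallyOfFiniteType)] at hgs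
      exact hgs
    obtain ⟨z', hz', -⟩ := Scheme.Pullback.exists_preimage_pullback (f := fT.left) (g := c.left) z y (by
      show fT.left z = (I.subschemeι ≫ V.ι) y
      rw [Scheme.Hom.comp_apply, hy]
      rfl)
    let W := pullback fT.left c.left
    let ρ : Ar ⟶ W.residueField z' :=
      Spec.preimage (W.fromSpecResidueField z' ≫ pullback.snd fT.left c.left ≫ I.subscheme.isoSpec.hom)
    have hρ : Spec.map ρ ≫ gs = Spec.map ρ ≫ gt := by
      rw [Spec.map_preimage]
      simp only [gs, gt, Category.assoc, Iso.hom_inv_id_assoc]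
      rw [← pullback.condition_assoc, ← pullback.condition_assoc]
      congr 2
      exact congrArg (fun q : T ⟶ Over.mk σ => q.left) hst
    rw [← Spec.map_preimage gs, ← Spec.map_preimage gt, ← Spec.map_comp, ← Spec.map_comp] at hρ
    have hρ' := Spec.map_injective hρ
    haveI : (RingHom.ker ρ.hom).IsPrime := RingHom.ker_isPrime _
    have key : (Spec.preimage gt).hom = algebraMap k Ar := eq_algebraMap_of_mod _ (RingHom.ker ρ.hom) fun x => by
      rw [RingHom.mem_ker, map_sub, sub_eq_zero]
      exact (congrArg (fun q => q.hom x) hρ').symm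
    have hceq : c ≫ ms = c ≫ mt := Over.OverMorphism.ext (by
      have h1 : gt = gs := by
        rw [← Spec.map_preimage gs, ← Spec.map_preimage gt]
        exact congrArg Spec.map (CommRingCat.hom_ext key)
      exact (cancel_epi I.subscheme.isoSpec.inv).1 h1.symm)
    -- lift to the stabilizer
    let l : (yon S).obj _ ⟶ G.stabilizer := pullback.lift (f := G.j) (g := G.diag) ((yon S).map c ≫ b)
      ((yon S).map c ≫ b ≫ G.s) (by
        apply pullback.hom_ext
        · simp only [Category.assoc, GroupoidSp.j_fst, GroupoidSp.diag, pullback.lift_fst, Category.comp_id]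
          rw [← cancel_mono eU.hom]
          simp only [Category.assoc, ← hms, ← hmt, ← Functor.map_comp, hceq]
        · simp only [Category.assoc, GroupoidSp.j_snd, GroupoidSp.diag, pullback.lift_snd, Category.comp_id])
    have sqC := hfSe.1.isPullback' l
    let C' := hfSe.1.pullback l
    let pC : C' ⟶ _ := hfSe.1.snd l
    let qC : C' ⟶ AS' := hfSe.1.fst' l
    have : Etale pC.left := hfSe.2 _ _ _ (hfSe.1.isPullback l)
    have : Surjective pC.left := hfSs.2 _ _ _ (hfSe.1.isPullback l)
    -- the scheme over both charts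
    have sqb := hbe.1.isPullback' ((yon S).map (pC ≫ c) ≫ b)
    let M := hbe.1.pullback ((yon S).map (pC ≫ c) ≫ b)
    have hself : (yon S).map (qC ≫ fA) ≫ b = (yon S).map (pC ≫ c) ≫ b := by
      have h1 := congrArg (fun q => q ≫ G.stabilizerι) sqC.w
      simp only [Category.assoc, l, GroupoidSp.stabilizerι, pullback.lift_fst] at h1
      rw [Functor.map_comp, Functor.map_comp, Category.assoc, Category.assoc]
      exact (congrArg ((yon S).map qC ≫ ·) sqS.w).trans h1
    obtain ⟨δ, hδ⟩ := (yon S).map_surjective (sqb.lift ((yon S).map (qC ≫ fA)) (𝟙 _)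
      (by rw [Category.id_comp]; exact hself))
    have hδ₂ : δ ≫ hbe.1.snd ((yon S).map (pC ≫ c) ≫ b) = 𝟙 C' := (yon S).map_injective (by
      rw [Functor.map_comp, hδ, sqb.lift_snd, (yon S).map_id])
    have hδ₁ : δ ≫ hbe.1.fst' ((yon S).map (pC ≫ c) ≫ b) = qC ≫ fA := (yon S).map_injective (by
      rw [Functor.map_comp, hδ, sqb.lift_fst])
    have : LocallyQuasiFinite qC.left := by
      have hc : LocallyQuasiFinite c.left := inferInstanceAs (LocallyQuasiFinite (I.subschemeι ≫ V.ι))
      have hsnd : Etale (hbe.1.snd ((yon S).map (pC ≫ c) ≫ b)).left := hbe.2 _ _ _ (hbe.1.isPullback _)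
      have hfst : LocallyQuasiFinite (hbe.1.fst' ((yon S).map (pC ≫ c) ≫ b)).left := by
        refine (repWith_comp ((repWith_yon_map_iff @LocallyQuasiFinite (pC ≫ c)).2 ?_)
          (repWith_mono (fun _ _ g (hg : Etale g) =>
            Groth.Agent.AlgSpDecent.locallyQuasiFinite_of_etale g) hbe)).2 b _ _ sqb.flip
        have := Groth.Agent.AlgSpDecent.locallyQuasiFinite_of_etale pC.left
        exact inferInstanceAs (LocallyQuasiFinite (pC.left ≫ c.left))
      haveI : IsImmersion δ.left := by
        haveI : IsImmersion (δ.left ≫ (hbe.1.snd ((yon S).map (pC ≫ c) ≫ b)).left) := by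
          rw [← Over.comp_left, hδ₂]
          exact inferInstanceAs (IsImmersion (𝟙 C'.left))
        exact IsImmersion.of_comp _ (hbe.1.snd ((yon S).map (pC ≫ c) ≫ b)).left
      haveI : LocallyQuasiFinite (qC.left ≫ fA.left) := by
        rw [← Over.comp_left, ← hδ₁, Over.comp_left]
        infer_instance
      exact LocallyQuasiFinite.of_comp qC.left fA.left
    have hle : topologicalKrullDim C'.left ≤ AlgSp.dim G.stabilizer := by
      rw [dim_eq_of_chart hfSe hfSs]
      exact AlgSpDecent.topologicalKrullDim_le_of_lqf qC.left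
    refine le_trans ?_ hle
    -- local dimension at a general point of the component
    obtain ⟨Q, hQo, ⟨x, hxQ⟩, hQC⟩ := exists_open_in_component hC
    let Qo : V.toScheme.Opens := ⟨Q, hQo⟩
    obtain ⟨y', hy'⟩ : x ∈ Set.range I.subschemeι := hr.symm ▸ hQC hxQ
    obtain ⟨w, hw⟩ := pC.left.surjective y'
    haveI : Nonempty (Points G.R) := ⟨Points.ofPt b (fT.left z)⟩
    rw [dim_eq_of_const hR (FlatMor.localDim A₀.left (V.ι x)) fun U' a' u' ha' =>
      groupoid_localDim_const G hR eU hs ht ha' hbe u' _]
    rw [← localDim_etale V.ι x]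
    rw [S5792.result]
    refine le_trans ?_ (le_iSup (fun v => FlatMor.localDim C'.left v) w)
    show _ ≤ FlatMor.localDim C'.left w
    rw [localDim_etale pC.left w, hw]
    let E : I.subscheme.Opens := I.subschemeι ⁻¹ᵁ Qo
    haveI : IsClosedImmersion (I.subschemeι ∣_ Qo) := IsZariskiLocalAtTarget.restrict (P := @IsClosedImmersion) inferInstance Qo
    have hres : ∀ e : E.toScheme, Qo.ι ((I.subschemeι ∣_ Qo) e) = I.subschemeι e.1 := fun e =>
      (Scheme.Hom.comp_apply _ _ _).symm.trans
        (congrArg (fun q : E.toScheme ⟶ V.toScheme => q e) (morphismRestrict_ι I.subschemeι Qo))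
    haveI : Surjective (I.subschemeι ∣_ Qo) := ⟨fun q => by
      obtain ⟨e, he⟩ : q.1 ∈ Set.range I.subschemeι := hr.symm ▸ hQC q.2
      exact ⟨⟨e, show I.subschemeι e ∈ Qo by rw [he]; exact q.2⟩, Subtype.ext ((hres ⟨e, show I.subschemeι e ∈ Qo by rw [he]; exact q.2⟩).trans he)⟩⟩
    have hhom : IsHomeomorph (I.subschemeι ∣_ Qo) := isHomeomorph_iff_isEmbedding_surjective.2
      ⟨(I.subschemeι ∣_ Qo).isEmbedding, (I.subschemeι ∣_ Qo).surjective⟩
    calc FlatMor.localDim V.toScheme x = FlatMor.localDim Qo.toScheme ⟨x, hxQ⟩ :=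
          (localDim_etale Qo.ι ⟨x, hxQ⟩).symm
      _ ≤ FlatMor.localDim E.toScheme ⟨y', show I.subschemeι y' ∈ Qo by rw [hy']; exact hxQ⟩ := by
          refine le_iInf fun O => (iInf_le _ ⟨⟨(I.subschemeι ∣_ Qo) '' (O.1 : Set E.toScheme),
            hhom.isOpenMap _ O.1.isOpen⟩, ⟨_, O.2, Subtype.ext ((hres _).trans hy')⟩⟩).trans ?_
          exact le_of_eq (((hhom.isEmbedding.homeomorphImage (O.1 : Set E.toScheme)).isHomeomorph).topologicalKrullDim_eq _).symm
      _ = FlatMor.localDim I.subscheme y' := localDim_etale E.ι _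
  · have hle : topologicalKrullDim AS'.left ≤ topologicalKrullDim A₀.left := by
      haveI := hfA
      exact AlgSpDecent.topologicalKrullDim_le_of_lqf fA.left
    rw [dim_eq_of_chart hfSe hfSs, dim_eq_of_chart hbe hbs]
    exact hle

end Groth.Agent.GrpDim14
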